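import Mathlib
import Cfsg.Agent.Lib.LC3.Inv

/-! Rowley's theorem (after `Lib/N6/Foc`): maximal counterexamples to the strong closure of a
subgroup of a Sylow 2-subgroup. -/

set_option autoImplicit false
set_option linter.unusedSectionVars false

namespace CfsgLib.LC3

open Subgroup Cfsg CfsgLib.Tech CfsgLib.Class2 CfsgLib.FT3 CfsgLib.N6
open scoped commutatorElement CfsgLib.BG

variable {G : Type*} [Group G] [Finite G] {S Y Z P : Subgroup G} {n : G}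

/-- a member `P` of the conjugation family such that fusion above `P` respects `Y` -/
structure Foc3 (S Y P : Subgroup G) : Prop where
  n6 : H3 G
  syl : IsSylowIn 2 S ⊤
  nY : S ≤ 𝒩(Y)
  ag : AG.IsAG 2 S P
  ih : ∀ (U : Subgroup G) g, U ≤ S → Nat.card P < Nat.card U → cj g U ≤ S →
    ∀ y ∈ U, y ∈ Y → g * y * g⁻¹ ∈ Y

theorem control3 (h6 : H3 G) (hS : IsSylowIn 2 S ⊤) (hY : S ≤ 𝒩(Y))
    (h : ∀ P, Foc3 S Y P → 𝒩(P) ≤ 𝒩(P ⊓ Y)) {y g : G} (hy : y ∈ S) (h1 : y ∈ Y)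
    (hg : g * y * g⁻¹ ∈ S) : g * y * g⁻¹ ∈ Y :=
  AG.ag_induction hS.toSylowTop (fun U g => ∀ y ∈ U, y ∈ Y → g * y * g⁻¹ ∈ Y)
    (fun _ _ _ h1 h2 y hy => h2 y (h1 hy))
    (fun _ g k h1 h2 y hy e => by
      rw [show k * g * y * (k * g)⁻¹ = k * (g * y * g⁻¹) * k⁻¹ by group]
      exact h2 _ (conj_mem_cj.mpr hy) (h1 y hy e))
    (fun _ c _ hc y hy e => by rwa [← hc y hy, mul_inv_cancel_right])
    (fun D h1 ih _ hx _ hy e =>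
      (conj_mem_of_mem_normalizer (h D ⟨h6, hS, hY, h1, ih⟩ hx) ⟨hy, e⟩).2)
    (zpowers y) g (zpowers_le.mpr hy) (by rw [cj_zpowers]; exact zpowers_le.mpr hg) y (mem_zpowers y) h1

theorem le_of_control3 (h6 : H3 G) (hS : IsSylowIn 2 S ⊤) (hY : S ≤ 𝒩(Y)) (h2 : I2 Y S)
    (h : ∀ P, Foc3 S Y P → 𝒩(P) ≤ 𝒩(P ⊓ Y)) (hp : ⁅(⊤ : Subgroup G), (⊤ : Subgroup G)⁆ = ⊤) : S ≤ Y :=
  fun s hs => Gold.focal_le hS (fun x hx u _ e => by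
    have h1 : u * x⁻¹ * u⁻¹ ∈ S := by
      simpa [commutatorElement_def, mul_assoc] using mul_mem (inv_mem hx) e
    rw [show ⁅x, u⁆ = x * (u * x⁻¹ * u⁻¹) by rw [commutatorElement_def]; group]
    by_cases h3 : x ∈ Y
    · exact mul_mem h3 (control3 h6 hS hY h (inv_mem hx) (inv_mem h3) h1)
    · refine h2 x hx _ h1 h3 fun h4 => h3 ?_
      simpa [mul_assoc] using control3 h6 hS hY h (g := u⁻¹) h1 h4 (by simpa [mul_assoc] using hx))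
    ⟨hs, hp.ge (mem_top s)⟩

namespace Foc3

variable (f : Foc3 S Y P)
include f

theorem le : P ≤ S := f.ag.le

theorem two : IsPGroup 2 S := f.syl.pgroup

theorem nP {y : G} (hy : y ∈ S) (h : y ∈ 𝒩(P)) : y ∈ 𝒩(P ⊓ Y) :=
  inf_normalizer_le_normalizer_inf ⟨h, f.nY hy⟩

theorem se {y : G} (h1 : y ∈ 𝒩(P)) (h2 : y ∈ 𝒩(P ⊓ Y)) (h3 : y ∉ P) {k : ℕ} (h4 : y ^ 2 ^ k ∈ P)
    (hn : n ∈ 𝒩(P)) (h5 : n * y * n⁻¹ ∈ 𝒩(P ⊓ Y)) : n ∈ 𝒩(P ⊓ Y) := by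
  obtain ⟨m, hm, h6⟩ := exists_odd_pow_two y
  have hT : IsSylowIn 2 (S ⊓ 𝒩(P)) (𝒩(P) ⊓ 𝒩(P ⊓ Y)) :=
    f.ag.syl.of_le (fun _ h => ⟨h.2, f.nP h.1 h.2⟩) inf_le_left
  have hP : P ≤ 𝒩(P) ⊓ 𝒩(P ⊓ Y) := (le_inf f.le le_normalizer).trans hT.le
  have hU := f.ag.pgroup.to_sup_of_normal_left' h6 (zpowers_le.mpr (pow_mem h1 m))
  obtain ⟨a, ha, e1⟩ := hT.exists_cj_le hU (sup_le hP (zpowers_le.mpr (pow_mem (mem_inf.mpr ⟨h1, h2⟩) m)))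
  obtain ⟨b, hb, e2⟩ := hT.exists_cj_le (isPGroup_cj n hU) (by
    rw [cj_sup, mem_normalizer_iff_cj.mp hn, cj_zpowers, ← conj_pow]
    exact sup_le hP (zpowers_le.mpr (pow_mem (mem_inf.mpr ⟨mul_mem (mul_mem hn h1) (inv_mem hn), h5⟩) m)))
  rw [mem_inf] at ha hb
  have h7 := mul_mem (mul_mem hb.1 hn) (inv_mem ha.1)
  have h8 : b * n * a⁻¹ ∈ 𝒩(P ⊓ Y) := mem_normalizer_of_forall fun p hp =>
    ⟨conj_mem_of_mem_normalizer h7 hp.1, f.ih _ _ (e1.trans inf_le_left) (by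
      rw [card_cj]
      exact Core.card_lt_of_lt (left_lt_sup.mpr fun e => h3 (mem_of_odd hm h4 (e (mem_zpowers _)))))
      (by rw [← cj_mul, inv_mul_cancel_right, cj_mul]; exact e2.trans inf_le_left) p
      (mem_cj.mpr (mem_sup_left (conj_mem_of_mem_normalizer' ha.1 hp.1))) hp.2⟩
  exact (mul_mem_cancel_left hb.2).mp ((mul_mem_cancel_right (inv_mem ha.2)).mp h8)

theorem se' {y : G} (hy : y ∈ S) (h1 : y ∈ 𝒩(P)) (h3 : y ∉ P) (hn : n ∈ 𝒩(P))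
    (h5 : n * y * n⁻¹ ∈ 𝒩(P ⊓ Y)) : n ∈ 𝒩(P ⊓ Y) := by
  obtain ⟨k, hk⟩ := isPGroup_iff_mem.mp f.two y hy
  exact f.se h1 (f.nP hy h1) h3 (k := k) (hk ▸ one_mem _) hn h5

theorem s3 (h2 : I2 Y S) (hn : n ∈ 𝒩(P)) (hn' : n ∉ 𝒩(P ⊓ Y)) {y y' w : G} (hy : y ∈ S)
    (h1 : y ∈ 𝒩(P)) (h3 : y ∉ P) (hy' : y' ∈ S) (h1' : y' ∈ 𝒩(P)) (h3' : y' ∉ P)
    (h4 : y ∈ 𝒩(P ⊓ Y ⊓ cj n Y)) (h4' : y' ∈ 𝒩(P ⊓ Y ⊓ cj n⁻¹ Y)) (hw : w * w = 1) (hw1 : w ≠ 1)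
    (e : w * y = y * w) (e' : w * (n * y' * n⁻¹) = n * y' * n⁻¹ * w) : False := by
  have eP := mem_normalizer_iff_cj.mp hn
  have i1 : I2 Y P := h2.mono f.le
  have i2 : I2 (cj n Y) P := eP ▸ i1.cj n
  have cN : ∀ {a} {U : Subgroup G}, n * a * n⁻¹ ∈ 𝒩(cj n U) ↔ a ∈ 𝒩(U) := by
    intro a U; rw [← cj_normalizer, conj_mem_cj]
  have k1 := fun {p} => tri i2 i1 h1 h4 (f.nP hy h1) (fun e => hn' (inv_mem_iff.mp
    (f.se' hy h1 h3 (inv_mem hn) (cN.mp (by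
      rwa [cj_inf, eP, show n * (n⁻¹ * y * n⁻¹⁻¹) * n⁻¹ = y by group]))))) (p := p)
  have h5 : n * y' * n⁻¹ ∉ 𝒩(P ⊓ Y) := fun e => hn' (f.se' hy' h1' h3' hn e)
  have h6 := mul_mem (mul_mem hn h1') (inv_mem hn)
  have k2 := fun {p} => tri i1 i2 h6 (by simpa only [cj_inf, eP, cj_cj_inv] using cN.mpr h4')
    (by simpa only [cj_inf, eP] using cN.mpr (f.nP hy' h1')) h5 (p := p)
  have tz := (Two.of_mem f.two hy').conj n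
  set z := n * y' * n⁻¹
  have h7 := mul_mem h1 h6
  have k3 : ∀ {p}, p ∈ P → (y * z * p * (y * z)⁻¹ ∈ Y ↔ (p ∈ cj n Y ↔ p ∈ Y)) ∧
      (y * z * p * (y * z)⁻¹ ∈ cj n Y ↔ p ∈ Y) := fun {p} hp => by
    have a1 := k1 (conj_mem_of_mem_normalizer h6 hp)
    have a2 := k2 hp
    rw [show y * z * p * (y * z)⁻¹ = y * (z * p * z⁻¹) * y⁻¹ by group, a1.1, a1.2, a2.1, a2.2]
    exact ⟨Iff.rfl, by by_cases e1 : p ∈ Y <;> by_cases e2 : p ∈ cj n Y <;> simp only [e1, e2, iff_true,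
      iff_false, not_true]⟩
  refine h5 ((mul_mem_cancel_left (f.nP hy h1)).mp (f.n6.mem hw hw1 (Two.of_mem f.two hy) tz e e'
    (mem_normalizer_of_forall fun p hp => ⟨conj_mem_of_mem_normalizer (pow_mem h7 3) hp.1, ?_⟩)))
  have b1 := conj_mem_of_mem_normalizer h7 hp.1
  have a1 := k3 hp.1
  have a2 := k3 b1
  have a3 := k3 (conj_mem_of_mem_normalizer h7 b1)
  have a4 : p ∈ Y := hp.2
  have e3 : ∀ g : G, g ^ 3 * p * (g ^ 3)⁻¹ = g * (g * (g * p * g⁻¹) * g⁻¹) * g⁻¹ := fun g => by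
    rw [pow_three]; group
  rw [e3]
  refine a3.1.mpr ?_
  rw [a2.1, a2.2, a1.1, a1.2]
  simp only [a4, iff_true, true_iff]

end Foc3

/-- the case of a subgroup of index two and class at most two -/
structure Fz3 (S Y Z P : Subgroup G) (n : G) : Prop extends Foc3 S Y P where
  YS : Y ≤ S
  i2 : I2 Y S
  ZY : Z ≤ Y
  cZ : Y ≤ 𝒞(Z)
  nZ : S ≤ 𝒩(Z)
  comm : ∀ a ∈ Y, ∀ b ∈ Y, ⁅a, b⁆ ∈ Z
  ne : P ≠ S
  rk : ¬ PRankLE 2 2 G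
  hn : n ∈ 𝒩(P)
  hn' : n ∉ 𝒩(P ⊓ Y)

namespace Fz3

variable (f : Fz3 S Y Z P n)
include f

theorem symm : Fz3 S Y Z P n⁻¹ := { f with hn := inv_mem f.hn, hn' := mt inv_mem_iff.mp f.hn' }

theorem eP : cj n P = P := mem_normalizer_iff_cj.mp f.hn

theorem i1 : I2 Y P := f.i2.mono f.le

theorem i1' : I2 (cj n Y) P := f.eP ▸ f.i1.cj n

theorem exists_u : ∃ u ∈ P, u ∈ cj n Y ∧ u ∉ Y := by_contra fun e =>
  f.hn' (mem_normalizer_of_forall fun _ hp => ⟨conj_mem_of_mem_normalizer f.hn hp.1, by_contra fun e1 =>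
    e ⟨_, conj_mem_of_mem_normalizer f.hn hp.1, conj_mem_cj.mpr hp.2, e1⟩⟩)

theorem exists_y : ∃ y ∈ Y, y ∈ 𝒩(P) ∧ y ∉ P := by
  obtain ⟨y, h1, h2, h3⟩ := exists_mem_normalizer_of_lt f.two (lt_of_le_of_ne f.le f.ne)
  obtain ⟨u, hu, -, h4⟩ := f.exists_u
  by_cases e : y ∈ Y
  · exact ⟨y, e, h3, h2⟩
  · exact ⟨u * y, f.i2 u (f.le hu) y h1 h4 e, mul_mem (le_normalizer hu) h3,
      mt (mul_mem_cancel_left hu).mp h2⟩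

theorem mem_of_cent {y : G} (hy : y ∈ S) (h1 : y ∈ 𝒩(P)) (h2 : y ∈ 𝒞(P ⊓ Y)) : y ∈ P :=
  by_contra fun e => by
  by_cases e1 : P ⊓ Y ⊓ cj n Y = ⊥
  · exact f.rk (rank_of_sc f.syl f.le (f.i1.card_le_four f.i1' fun x hx h3 h4 =>
      e1.le (show x ∈ P ⊓ Y ⊓ cj n Y from ⟨⟨hx, h3⟩, h4⟩)) (f.ag.inf_centralizer_le f.two))
  obtain ⟨w, hw, h3⟩ := exists_involution_of_pgroup (f.ag.pgroup.to_le (inf_le_left.trans inf_le_left)) e1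
  have key : ∀ U, y ∈ 𝒩(P ⊓ Y ⊓ U) := fun U =>
    centralizer_le_normalizer _ (centralizer_le (fun _ h => h.1) h2)
  exact f.s3 f.i2 f.hn f.hn' hy h1 e hy h1 e (key _) (key _) (mul_self_of_orderOf_two h3)
    (ne_one_of_orderOf_two h3) (h2 w hw.1)
    (TIQ.conj_comm (h2 _ ⟨conj_mem_of_mem_normalizer' f.hn hw.1.1, mem_cj.mp hw.2⟩))

theorem ZP : Z ≤ P := by_contra fun e => by
  obtain ⟨a, ha, h1, h2⟩ := exists_mem_normalizer_of_lt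
    (f.two.to_le (sup_le f.le (f.ZY.trans f.YS))) (left_lt_sup.mpr e)
  obtain ⟨p, hp, z, hz, rfl⟩ := (Core.mem_sup_of_le_normalizer_right (f.le.trans f.nZ)).mp ha
  exact h1 (mul_mem hp (f.mem_of_cent (f.YS (f.ZY hz)) ((mul_mem_cancel_left (le_normalizer hp)).mp h2)
    fun q hq => (f.cZ hq.2 z hz).symm))

theorem ZP' : cj n Z ≤ P := (cj_mono n f.ZP).trans f.eP.le

theorem nZ' : P ≤ 𝒩(cj n Z) := by
  rw [← cj_normalizer]; exact f.eP.ge.trans (cj_mono n (f.le.trans f.nZ))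

theorem cZ' : cj n Y ≤ 𝒞(cj n Z) := by rw [← cj_centralizer]; exact cj_mono n f.cZ

theorem conj_eq (y d : G) : y * d * y⁻¹ = ⁅y, d⁆ * d := by rw [commutatorElement_def]; group

theorem normD {y : G} (hy : y ∈ Y) (h : cj n⁻¹ Z ≤ Y) : y ∈ 𝒩(P ⊓ Y ⊓ cj n Y) :=
  mem_normalizer_of_forall fun d hd => by
    have h1 := f.comm y hy d hd.1.2
    rw [f.conj_eq]
    exact mul_mem ⟨⟨f.ZP h1, f.ZY h1⟩, mem_cj.mpr (h (mem_cj.mpr (by simpa [mul_assoc] using h1)))⟩ hd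

theorem s3' {y y' : G} (hy : y ∈ Y) (h1 : y ∈ 𝒩(P)) (h3 : y ∉ P) (hy' : y' ∈ Y) (h1' : y' ∈ 𝒩(P))
    (h3' : y' ∉ P) (h4 : y ∈ 𝒩(P ⊓ Y ⊓ cj n Y)) (h4' : y' ∈ 𝒩(P ⊓ Y ⊓ cj n⁻¹ Y)) :
    Z ⊓ cj n Z = ⊥ := by_contra fun e => by
  obtain ⟨w, hw, h5⟩ := exists_involution_of_pgroup (f.ag.pgroup.to_le (inf_le_left.trans f.ZP)) e
  exact f.s3 f.i2 f.hn f.hn' (f.YS hy) h1 h3 (f.YS hy') h1' h3' h4 h4' (mul_self_of_orderOf_two h5)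
    (ne_one_of_orderOf_two h5) (f.cZ hy w hw.1) (f.cZ' (conj_mem_cj.mpr hy') w hw.2)

theorem inside (h : cj n Z ≤ Y) (h' : cj n⁻¹ Z ≤ Y) : Z ⊓ cj n Z = ⊥ := by
  obtain ⟨y, hy, h1, h2⟩ := f.exists_y
  exact f.s3' hy h1 h2 hy h1 h2 (f.normD hy h') (f.symm.normD hy (by rwa [inv_inv]))

theorem le_cent {u : G} (hu : u ∈ P) (h1 : u ∉ Y) (h2 : u ∈ 𝒞(Z)) : P ≤ 𝒞(Z) := fun p hp => by
  by_cases e : p ∈ Y
  · exact f.cZ e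
  · exact (mul_mem_cancel_right h2).mp (f.cZ (f.i1 p hp u hu e h1))

theorem comm_mem {u z : G} (hu : u ∈ S) (hz : z ∈ Z) : ⁅z, u⁆ ∈ Z := by
  rw [commutatorElement_def, mul_assoc z, mul_assoc z]
  exact mul_mem hz (conj_mem_of_mem_normalizer (f.nZ hu) (inv_mem hz))

theorem inside' (h : cj n Z ≤ Y) (h' : cj n⁻¹ Z ≤ Y) : P ≤ 𝒞(Z) := by
  obtain ⟨u, hu, h1, h2⟩ := f.exists_u
  refine f.le_cent hu h2 fun z hz => commutatorElement_eq_one_iff_mul_comm.mp ((f.inside h h').le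
    (show _ ∈ Z ⊓ cj n Z from ⟨f.comm_mem (f.le hu) hz, mem_cj.mpr ?_⟩))
  convert f.comm (n⁻¹ * z * n) (h' (mem_cj.mpr (by simpa [mul_assoc] using hz))) _ (mem_cj.mp h1) using 1
  simp only [commutatorElement_def]; group

variable (hc : ¬ P ≤ 𝒞(Z))
include hc

theorem not_le : ¬ cj n Z ≤ Y := fun h => hc (f.inside' h fun a ha => by_contra fun e =>
  hc (f.le_cent (f.symm.ZP' ha) e fun z hz => by
    have := TIQ.conj_comm (g := n⁻¹) (f.cZ (h (conj_mem_cj.mpr hz)) _ (mem_cj.mp ha))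
    simpa [mul_assoc] using this.symm))

variable {u : G} (hu : u ∈ cj n Z) (h1 : u ∉ Y)
include hu h1

theorem exists_nc : ∃ z ∈ Z, z * u ≠ u * z := by_contra fun e =>
  hc (f.le_cent (f.ZP' hu) h1 fun z hz => by_contra fun e1 => e ⟨z, hz, e1⟩)

theorem mem_iff {p : G} (hp : p ∈ P) : p ∈ cj n Y ↔ p * u = u * p := by
  refine ⟨fun e => (f.cZ' e u hu).symm, fun e => by_contra fun e1 => ?_⟩
  obtain ⟨z, hz, h3⟩ := f.exists_nc hc hu h1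
  have := f.cZ' (f.i1' p hp z (f.ZP hz) e1 fun e2 => h3 (f.cZ' e2 u hu).symm) u hu
  rw [← mul_assoc, ← e, mul_assoc, mul_assoc, mul_left_cancel_iff] at this
  exact h3 this.symm

theorem i2c : I2 𝒞[u] (P ⊓ Y) := fun x hx y hy h2 h3 => by
  rw [mem_centralizer_singleton_iff] at *
  rw [← f.mem_iff hc hu h1 hx.1] at h2
  rw [← f.mem_iff hc hu h1 hy.1] at h3
  exact (f.mem_iff hc hu h1 (mul_mem hx.1 hy.1)).mp (f.i1' x hx.1 y hy.1 h2 h3)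

theorem norm_of {v : G} (hv : v ∈ Y) (h2 : ⁅v, u⁆ ∈ Z) : v ∈ 𝒩(P) ∧ v ∈ 𝒩(P ⊓ Y ⊓ cj n Y) := by
  have k : ∀ p ∈ P, p ∈ Y → v * p * v⁻¹ ∈ P := fun p hp h3 =>
    f.conj_eq v p ▸ mul_mem (f.ZP (f.comm v hv p h3)) hp
  refine ⟨mem_normalizer_of_forall fun p hp => ?_, mem_normalizer_of_forall fun d hd => ?_⟩
  · by_cases e : p ∈ Y
    · exact k p hp e
    · rw [← inv_mul_cancel_right p u, ← conj_mul, f.conj_eq v u]
      exact mul_mem (k _ (mul_mem hp (inv_mem (f.ZP' hu))) (f.i1.mul_inv hp (f.ZP' hu) e h1))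
        (mul_mem (f.ZP h2) (f.ZP' hu))
  · have h3 : v * d * v⁻¹ ∈ Y := mul_mem (mul_mem hv (show d ∈ Y from hd.1.2)) (inv_mem hv)
    refine ⟨⟨k d hd.1.1 hd.1.2, h3⟩, (f.mem_iff hc hu h1 (k d hd.1.1 hd.1.2)).mpr ?_⟩
    have h4 := conj_comm' (g := v) (f.cZ' hd.2 u hu)
    rw [f.conj_eq v u, mul_assoc, ← mul_assoc _ ⁅v, u⁆, ← f.cZ h3 _ h2, mul_assoc ⁅v, u⁆,
      mul_left_cancel_iff] at h4
    exact h4.symm

omit hu h1 in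
theorem out : ∃ m, Fz3 S Y Z P m ∧ ∃ u ∈ cj m Z, u ∉ Y ∧ ∀ v ∈ Y, ⁅v, u⁆ ∈ Z → v ∈ P := by
  obtain ⟨u, hu, h1⟩ := SetLike.not_le_iff_exists.mp (f.not_le hc)
  obtain ⟨u', hu', h1'⟩ := SetLike.not_le_iff_exists.mp (f.symm.not_le hc)
  by_contra e
  simp only [not_exists, not_and, not_forall] at e
  obtain ⟨v, hv, h2, h3⟩ := e n f u hu h1
  obtain ⟨v', hv', h2', h3'⟩ := e n⁻¹ f.symm u' hu' h1'
  obtain ⟨z, hz, h4⟩ := f.exists_nc hc hu h1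
  refine h4 (commutatorElement_eq_one_iff_mul_comm.mp ((f.s3' hv (f.norm_of hc hu h1 hv h2).1 h3 hv'
    (f.symm.norm_of hc hu' h1' hv' h2').1 h3' (f.norm_of hc hu h1 hv h2).2
    (f.symm.norm_of hc hu' h1' hv' h2').2).le (show _ ∈ Z ⊓ cj n Z from
      ⟨f.comm_mem (f.le (f.ZP' hu)) hz, ?_⟩)))
  exact (cj n Z).mul_mem (conj_mem_of_mem_normalizer (f.nZ' (f.ZP hz)) hu) ((cj n Z).inv_mem hu)

end Fz3

end CfsgLib.LC3
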