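import Mathlib
import Cfsg.Agent.Lib.LC3.Foc

/-! Rowley's theorem (after `Lib/N6/CaseA`, `Lib/N6/CaseB`): the two types of 2-local subgroups. -/

set_option autoImplicit false
set_option linter.unusedSectionVars false

namespace CfsgLib.LC3

open Subgroup Cfsg CfsgLib.Tech CfsgLib.Class2 CfsgLib.FT3 CfsgLib.N6 CfsgLib.Gold
open scoped commutatorElement CfsgLib.BG

variable {G : Type*} [Group G] [Finite G] {S R Q P A B Z : Subgroup G} {x r n : G}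

theorem ca_foc (c : CA S Q x r) (f : Fz3 S Q (Q ⊓ 𝒞(Q)) P n) : False := by
  have hc : ¬ P ≤ 𝒞(Q ⊓ 𝒞(Q)) := fun e => by
    obtain ⟨u, hu, -, h1⟩ := f.exists_u
    obtain ⟨z, hz, h2⟩ := c.exists_nc (f.le hu) h1
    exact h2 (e hu z hz)
  obtain ⟨m, f, u, hu, h1, hv⟩ := f.out hc
  have hZ : Q ⊓ 𝒞(Q) ≤ P ⊓ Q := le_inf f.ZP inf_le_left
  have k : ∀ {m u}, Fz3 S Q (Q ⊓ 𝒞(Q)) P m → u ∈ cj m (Q ⊓ 𝒞(Q)) → u ∉ Q →
      u * u = 1 ∧ I2 𝒞[u] (Q ⊓ 𝒞(Q)) ∧ ∃ y, CA S Q y u := fun {m u} f hu h1 => by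
    have h2 := (f.i2c hc hu h1).mono hZ
    obtain ⟨q, hq, e⟩ := c.exists_eq (f.le (f.ZP' hu)) h1
    obtain ⟨z, hz, rfl⟩ := hu
    have h3 : MulAut.conj m z * MulAut.conj m z = 1 := conj_sq (c.sq_Z (fun a ha b hb h4 h5 => by
      have key : ∀ {a}, a ∈ Q ⊓ 𝒞(Q) → (a ∈ 𝒞[r] ↔ a ∈ 𝒞[q * r]) := fun {a} ha => by
        simp only [mem_centralizer_singleton_iff]
        rw [← mul_assoc, ← ha.2 q hq, mul_assoc, mul_assoc, mul_right_inj]
      rw [key ha] at h4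
      rw [key hb] at h5
      exact (key (mul_mem ha hb)).mpr (e ▸ h2 a ha b hb (e ▸ h4) (e ▸ h5)))
      (fun e1 => h1 (e ▸ mul_mem hq e1)) hz) m
    exact ⟨h3, h2, c.of_invol (f.le (f.ZP' ⟨z, hz, rfl⟩)) h1 h3⟩
  obtain ⟨u2, i2, y, c⟩ := k f hu h1
  have hD : ∀ a ∈ Q, a * u = u * a → a * a = 1 := fun a ha e => by_contra fun e1 => by
    obtain ⟨y, hy, ζ, hζ, e2, e3, e4⟩ := c.step i2 h1 ha e e1
    have haP := hv a ha (commutatorElement_eq_one_iff_mul_comm.mpr e ▸ one_mem _)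
    have ha' := mem_cj.mp ((f.mem_iff hc hu h1 haP).mpr e)
    have hu' : m⁻¹ * ζ * m⁻¹⁻¹ ∈ cj m⁻¹ (Q ⊓ 𝒞(Q)) := conj_mem_cj.mpr hζ
    rw [inv_inv] at hu'
    have h1' : m⁻¹ * ζ * m ∉ Q := fun e5 => e4 (by
      simpa [mul_assoc] using TIQ.conj_comm (g := m) (a := ζ) ((mem_cj.mp hu).2 _ e5))
    obtain ⟨-, i2', y₁, c'⟩ := k f.symm hu' h1'
    have cm : ∀ {a b : G}, a * b = b * a → m⁻¹ * a * m * (m⁻¹ * b * m) = m⁻¹ * b * m * (m⁻¹ * a * m) := by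
      intro a b e; simpa only [inv_inv] using conj_comm' (g := m⁻¹) e
    have e1' : m⁻¹ * a * m * (m⁻¹ * a * m) ≠ 1 := fun e5 => e1 (by
      simpa [mul_assoc] using conj_sq e5 m)
    obtain ⟨y', hy', υ, hυ, e2', e3', e4'⟩ := c'.step i2' h1' ha' (cm (hζ.2 a ha)) e1'
    have a2 := c.sq_mem i2 h1 ha
    have hυ' : m * υ * m⁻¹ ∈ cj m (Q ⊓ 𝒞(Q)) := conj_mem_cj.mpr hυ
    have e5 : ζ * (m * υ * m⁻¹) ≠ m * υ * m⁻¹ * ζ := fun e5 => e4' (by
      simpa [mul_assoc] using (cm e5).symm)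
    have cz : ∀ {p q}, p ∈ cj m (Q ⊓ 𝒞(Q)) → q ∈ cj m (Q ⊓ 𝒞(Q)) → p * q = q * p := fun hp hq =>
      f.cZ' (cj_mono m inf_le_left hq) _ hp
    have e6 : m * υ * m⁻¹ * u⁻¹ ∈ Q ⊓ 𝒞(Q) := by
      have h3 := f.i1.mul_inv (f.ZP' hυ') (f.ZP' hu) (fun e6 => e5 (hζ.2 _ e6).symm) h1
      by_cases e7 : m * υ * m⁻¹ * u⁻¹ = 1
      · exact e7 ▸ one_mem _
      have := c'.uniq i2' h1' (mem_cj.mp (mul_mem hυ' (inv_mem hu))) (c'.sq_mem i2' h1' ha')
        (cm (hζ.2 _ h3)) (by simpa [mul_assoc] using cm (hζ.2 _ a2.1))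
        (by simpa [mul_eq_one_iff_eq_inv] using e7) e1'
      rwa [show m * υ * m⁻¹ * u⁻¹ = a * a by simpa [mul_assoc] using congrArg (m * · * m⁻¹) this]
    have e7 : ⁅ζ, m * υ * m⁻¹⁆ = a * a := c.uniq i2 h1 (f.comm_mem (f.le (f.ZP' hυ')) hζ) a2
      (cz ((cj m _).mul_mem (conj_mem_of_mem_normalizer (f.nZ' (f.ZP hζ)) hυ') ((cj m _).inv_mem hυ')) hu)
      (Commute.mul_left e e) (mt commutatorElement_eq_one_iff_mul_comm.mp e5) e1
    have b1 : m * y' * m⁻¹ * a = a * (m * y' * m⁻¹) := (TIQ.conj_comm e2'.symm).symm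
    have b2 : m * y' * m⁻¹ * ζ * (m * y' * m⁻¹)⁻¹ = a * (m * υ * m⁻¹) * ζ := by
      calc _ = m * (y' * (m⁻¹ * ζ * m) * y'⁻¹) * m⁻¹ := by group
        _ = _ := by rw [e3']; group
    have b3 : m * υ * m⁻¹ * (m * y' * m⁻¹) = m * y' * m⁻¹ * (m * υ * m⁻¹) := conj_comm' (hυ.2 y' hy').symm
    have b4 : a * (m * υ * m⁻¹) = m * υ * m⁻¹ * a := (f.cZ' (mem_cj.mpr ha') _ hυ').symm
    have b5 := conj_sq (c.sq_Z i2 h1 hυ) m
    have tw := (Two.of_mem c.two (c.le hy')).conj m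
    generalize m * υ * m⁻¹ = v at *
    generalize m * y' * m⁻¹ = w at *
    have b6 : y * v * y⁻¹ = a * ζ * v := by
      calc _ = y * (v * u⁻¹) * y⁻¹ * (y * u * y⁻¹) := by group
        _ = v * u⁻¹ * (a * ζ) * u := by rw [e6.2 y hy, e3]; group
        _ = _ := by rw [← e6.2 _ (mul_mem ha hζ.1)]; group
    have z2 := c.sq_Z i2 h1 hζ
    have a4 := c.sq_Z i2 h1 a2
    have b7 := hζ.2 a ha
    have b8 : ζ * v = a * a * (v * ζ) := by rw [← e7, commutatorElement_def]; group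
    have g1 : y * w * v * (y * w)⁻¹ = a * ζ * v := by rw [← b6, mul_assoc y, ← b3]; group
    have g2 : y * w * a * (y * w)⁻¹ = a := by rw [mul_assoc y, b1, ← mul_assoc, e2]; group
    have g3 : y * w * ζ * (y * w)⁻¹ = v := by
      calc _ = y * (w * ζ * w⁻¹) * y⁻¹ := by group
        _ = y * a * y⁻¹ * (y * v * y⁻¹) * (y * ζ * y⁻¹) := by rw [b2]; group
        _ = a * a * (ζ * v) * ζ := by rw [e2, b6, hζ.2 y hy]; group
        _ = a * a * (a * a) * v * (ζ * ζ) := by rw [b8]; group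
        _ = v := by rw [a4, z2, one_mul, mul_one]
    have g4 : y * w * (a * ζ * v) * (y * w)⁻¹ = ζ := by
      rw [← conj_mul, ← conj_mul, g1, g2, g3]
      calc _ = a * (v * a) * (ζ * v) := by group
        _ = a * a * (v * (a * a)) * v * ζ := by rw [← b4, b8]; group
        _ = a * a * (a * a) * (v * v) * ζ := by rw [← (Commute.mul_left b4 b4).eq]; group
        _ = ζ := by rw [a4, b5, one_mul, one_mul]
    have g5 := mem_centralizer_singleton_iff.mp (f.n6.mem (K := 𝒞[v]) a4 e1 (Two.of_mem c.two (c.le hy)) tw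
      (Commute.mul_left e2.symm e2.symm) (Commute.mul_left b1.symm b1.symm)
      (mem_centralizer_singleton_iff.mpr (mul_inv_eq_iff_eq_mul.mp (by
        calc _ = y * w * (y * w * (y * w * v * (y * w)⁻¹) * (y * w)⁻¹) * (y * w)⁻¹ := by
              rw [pow_three]; group
          _ = v := by rw [g1, g4, g3]))))
    rw [g5, mul_inv_cancel_right, eq_comm, mul_eq_right] at g1
    exact e1 (by rwa [eq_inv_of_mul_eq_one_left g1, ← mul_inv_rev, inv_eq_one])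
  obtain ⟨z, hz, h3⟩ := c.exists_nc c.mem h1
  have h4 : ∀ v ∈ Q, ⁅v, u⁆ ∈ P ⊓ Q := fun v h => by
    have h5 : ⁅v, u⁆ ∈ Q := by
      rw [commutatorElement_def, mul_assoc v, mul_assoc v]
      exact mul_mem h (conj_mem_of_mem_normalizer (c.nQ c.mem) (inv_mem h))
    refine ⟨hv _ h5 ?_, h5⟩
    convert c.sq_mem i2 h1 h5 using 1
    simp only [commutatorElement_def, mul_inv_rev, inv_eq_of_sq u2, inv_inv, mul_assoc, u2, mul_one]
  have h5 : ∀ d ∈ Q, d * u = u * d → P ⊓ Q ≤ 𝒞[d] := fun d hd e a ha => by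
    have k : ∀ a ∈ Q, a * u = u * a → a ∈ 𝒞[d] := fun a ha e1 => mem_centralizer_singleton_iff.mpr (by
      rw [← inv_eq_of_sq (hD _ (mul_mem ha hd) (Commute.mul_left e1 e)), mul_inv_rev,
        inv_eq_of_sq (hD a ha e1), inv_eq_of_sq (hD d hd e)])
    by_cases e1 : a ∈ 𝒞[u]
    · exact k a ha.2 (mem_centralizer_singleton_iff.mp e1)
    · exact (mul_mem_cancel_right (mem_centralizer_singleton_iff.mpr (hz.2 d hd).symm)).mp
        (k _ (mul_mem ha (hZ hz)).2 (mem_centralizer_singleton_iff.mp (f.i2c hc hu h1 a ha z (hZ hz) e1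
          (mt mem_centralizer_singleton_iff.mp h3))))
  have h6 : ∀ d ∈ Q, d * u = u * d → d ∈ 𝒞(Q) := fun d hd e a ha => by
    have hn : y ∈ 𝒩(Q ⊓ 𝒞[d]) := mem_normalizer_of_forall fun b hb =>
      ⟨conj_mem_of_mem_normalizer c.fpf.norm hb.1, mem_centralizer_singleton_iff.mpr
        (c.comm_conj hb.1 hd (mem_centralizer_singleton_iff.mp hb.2))⟩
    have hn' : u ∈ 𝒩(Q ⊓ 𝒞[d]) := inf_normalizer_le_normalizer_inf ⟨c.nQ c.mem,
      le_normalizer (mem_centralizer_singleton_iff.mpr e.symm)⟩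
    have k : ∀ v ∈ Q, ⁅v, u⁆ ∈ Q ⊓ 𝒞[d] := fun v h => ⟨(h4 v h).2, h5 d hd e (h4 v h)⟩
    refine mem_centralizer_singleton_iff.mp (c.fpf.mem_of_comm_mem inf_le_left hn ha ?_).2
    have e1 : y = u * (y * u * y⁻¹) := by
      calc y = (u * (y * y) * u⁻¹) := by rw [← conj_mul, c.inv, ← mul_inv_rev, ← c.fpf.inv_eq, inv_inv]
        _ = u * (y * (u * y * u⁻¹)⁻¹ * u * u⁻¹) * u⁻¹ := by rw [c.inv]; group
        _ = u * (y * u * y⁻¹) * (u * u)⁻¹ := by group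
        _ = _ := by rw [u2, inv_one, mul_one]
    convert mul_mem (k _ (inv_mem ha)) (conj_mem_of_mem_normalizer hn' (conj_mem_of_mem_normalizer hn
      (k _ (conj_mem_of_mem_normalizer' c.fpf.norm (inv_mem ha))))) using 1
    nth_rewrite 1 [e1]
    nth_rewrite 3 [e1]
    simp only [commutatorElement_def]; group
  have h7 : P ⊓ Q ≤ Q ⊓ 𝒞(Q) := fun a ha => by
    by_cases e1 : a ∈ 𝒞[u]
    · exact ⟨ha.2, h6 a ha.2 (mem_centralizer_singleton_iff.mp e1)⟩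
    · exact (mul_mem_cancel_right hz).mp ⟨(mul_mem ha (hZ hz)).2, h6 _ (mul_mem ha (hZ hz)).2
        (mem_centralizer_singleton_iff.mp (f.i2c hc hu h1 a ha z (hZ hz) e1
          (mt mem_centralizer_singleton_iff.mp h3)))⟩
  obtain ⟨v, h8, -, h9⟩ := f.exists_y
  exact h9 (hv v h8 (h7 (h4 v h8)))

theorem ca_rank (c : CA R Q x r) (h6 : H3 G) (hp : ⁅(⊤ : Subgroup G), (⊤ : Subgroup G)⁆ = ⊤)
    (hR : IsSylowIn 2 R 𝒩(Q)) : PRankLE 2 2 G := by_contra fun rk => by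
  obtain ⟨S, hS, hRS⟩ := exists_isSylowIn_ge c.two le_top
  have h1 : 𝒩(R) ≤ 𝒩(Q) := fun g hg => by_contra fun e =>
    rk (rank_of_sc hS (c.le.trans hRS) (c.sims hg e) fun s hs => by_contra fun e1 => by
      obtain ⟨z, hz, h2⟩ := c.exists_nc ((hR.eq_of_le (Q := S ⊓ 𝒩(Q)) hS.pgroup.to_inf_left
        (le_inf hRS c.nQ) inf_le_right).le ⟨hs.1, centralizer_le_normalizer _ hs.2⟩) e1
      exact h2 (hs.2 z hz.1))
  obtain rfl : R = S := by_contra fun e => (lt_inf_normalizer_of_lt hS.pgroup (lt_of_le_of_ne hRS e)).ne'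
    (hR.eq_of_le hS.pgroup.to_inf_left (le_inf hRS le_normalizer) (inf_le_right.trans h1))
  obtain ⟨z, hz, h2⟩ := c.exists_nc c.mem fun e => by
    have h3 : r * x * r⁻¹ * x⁻¹ ∈ Q := by
      rw [mul_assoc r, mul_assoc r]
      exact mul_mem e (conj_mem_of_mem_normalizer c.fpf.norm (inv_mem e))
    rw [c.inv, ← mul_inv_rev, ← c.fpf.inv_eq, inv_inv] at h3
    exact c.x1 (c.fpf.eq_one h3 rfl)
  refine h2 (hz.2 r (le_of_control3 h6 hS c.nQ c.i2 (fun P f n hn => by_contra fun e => ?_) hp c.mem)).symm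
  refine ca_foc c ⟨f, c.le, c.i2, inf_le_left, fun a ha b hb => (hb.2 a ha).symm, c.nQ.trans c.nZ,
    fun _ ha _ hb => c.comm ha hb, ?_, rk, hn, e⟩
  rintro rfl
  exact e (inf_normalizer_le_normalizer_inf ⟨hn, h1 hn⟩)

theorem bd_top (b : BD A Z S) (h6 : H3 G) (hS : IsSylowIn 2 S ⊤) (hsc : ¬ HasSC G) : ∃ B, Cfg S A B :=
  by_contra fun hB => hsc ⟨A, b.ne, Core.isMulCommutative_iff_forall.mpr fun _ h _ h' => comm_of_sq b.eA h h',
    sc_of_isSylowIn hS b.le fun a ha g _ hg => control3 h6 hS b.nA (fun P f n hn => by_contra fun hn' => by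
  have hZ : Z ≤ P := fun z hz => f.ag.inf_centralizer_le f.two ⟨b.le (b.ZA hz), fun _ hp => b.cZ' (f.le hp) hz⟩
  have k : ∀ a ∈ A, ∀ p ∈ P, a * p * a⁻¹ * p⁻¹ ∈ Z := fun a ha p hp =>
    inv_mem_iff.mp (commutatorElement_inv a p ▸ b.comm p (f.le hp) a ha)
  have hA : A ≤ 𝒩(P) := fun a ha => mem_normalizer_of_forall fun p hp =>
    (mul_mem_cancel_right (inv_mem hp)).mp (hZ (k a ha p hp))
  have eP := mem_normalizer_iff_cj.mp hn
  obtain ⟨t, ht, h1⟩ : ∃ t ∈ cj n (P ⊓ A), t ∉ A := SetLike.not_le_iff_exists.mp fun e =>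
    hn' (mem_normalizer_of_cj_le (le_inf ((cj_mono n inf_le_left).trans eP.le) e))
  have htP : t ∈ P := eP.le (cj_mono n inf_le_left ht)
  by_cases e : P ⊓ A ≤ Z
  swap
  · obtain ⟨a, ha, h2⟩ := SetLike.not_le_iff_exists.mp e
    have h3 : A ≤ P := AG_stab_le f.ag (W := Z) (fun w hw => b.eA w (b.ZA hw)) (by
      rw [← b.center_eq f.le hZ ha.1 ha.2 h2 htP h1]
      exact Coprime.le_normalizer_inf le_rfl (Core.normalizer_le_normalizer_centralizer _))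
      (b.two.to_le b.le) hA fun a ha => ⟨k a ha, fun w hw => b.cZ' (b.le ha) hw⟩
    have h4 := ((cj_mono n h3).trans eP.le).trans f.le
    exact hB ⟨_, b.cfg hS h4 (sq_cj b.eA n) (b.le_relIndex h4 fun e => h1 (e (cj_mono n inf_le_right ht)))⟩
  have h2 : cj n Z ≤ P := (cj_mono n hZ).trans eP.le
  have h3 := cj_mono n e ht
  have eZ := sq_cj (fun w hw => b.eA w (b.ZA hw)) n
  by_cases e1 : Z ⊓ cj n Z = ⊥
  · refine hB ⟨_, b.cfg hS (h2.trans f.le) eZ ?_⟩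
    rw [← inf_relIndex_right, show A ⊓ cj n Z = ⊥ from eq_bot_iff.mpr fun w hw =>
      e1.le (show w ∈ Z ⊓ cj n Z from ⟨e ⟨h2 hw.2, hw.1⟩, hw.2⟩), relIndex_bot_left, card_cj]
  obtain ⟨⟨y, hy⟩, h4⟩ := ne_bot_iff_exists_ne_one.mp e1
  replace h4 : y ≠ 1 := fun e => h4 (Subtype.ext e)
  obtain ⟨a, ha, h5⟩ := b.surj t (f.le htP) h1 y hy.1
  have h6' : a ∉ P := fun e2 => h4 (h5 ▸ commutatorElement_eq_one_iff_mul_comm.mpr
    (b.cZ' (f.le htP) (e ⟨e2, ha⟩)))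
  have a2 := b.eA a ha
  have c1 : ∀ w ∈ cj n Z, w * (n * a * n⁻¹) = n * a * n⁻¹ * w := fun w hw =>
    TIQ.conj_comm (b.cZ (b.le ha) _ (mem_cj.mp hw))
  have a2' := conj_sq a2 n
  have hA' := mul_mem (mul_mem hn (hA ha)) (inv_mem hn)
  have fin : n * a * n⁻¹ ∉ 𝒩(P ⊓ A) := fun e => hn' (f.se' (b.le ha) (hA ha) h6' hn e)
  generalize n * a * n⁻¹ = a' at *
  have c2 : a * a' * t * (a * a')⁻¹ = t * y := by
    rw [mul_assoc a, ← c1 t h3, ← h5, commutatorElement_def, ← mul_assoc, ← mul_assoc, ← mul_assoc t, ← mul_assoc t,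
      eZ t h3, inv_eq_of_sq (eZ t h3)]
    group
  obtain ⟨m, hm, h7⟩ := exists_odd_pow_two (a * a')
  obtain ⟨j, hj⟩ := isPGroup_iff_mem.mp h7 _ (mem_zpowers _)
  obtain ⟨i, h8, h9⟩ := exists_half (P := P) (k := j) (fun e2 => h4 (by
    have := mem_centralizer_singleton_iff.mp (mem_of_sq_of_odd_pow (H := 𝒞[t]) hm
      (mem_centralizer_singleton_iff.mpr (by
        simpa [mul_assoc] using (TIQ.conj_comm (b.cZ' (f.le (conj_mem_of_mem_normalizer' hn e2))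
          (mem_cj.mp h3)))))
      (mem_centralizer_singleton_iff.mpr (mul_inv_eq_iff_eq_mul.mp (by
        calc _ = a * a' * (a * a' * t * (a * a')⁻¹) * (a * a')⁻¹ := by group
          _ = t * y * (a * (a' * y * a'⁻¹) * a⁻¹) := by rw [c2, ← conj_mul, c2]; group
          _ = t := by
            rw [← c1 y hy.2, mul_inv_cancel_right, b.cZ' (b.le ha) hy.1, mul_inv_cancel_right, mul_assoc,
              eZ y hy.2, mul_one]))))
    rwa [this, mul_inv_cancel_right, left_eq_mul] at c2)) (hj ▸ one_mem _)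
  rw [← pow_mul] at h8 h9
  have c3 : ∀ {u}, u * (a * a') = (a * a')⁻¹ * u → u * (a * a') ^ (m * i) * u⁻¹ = ((a * a') ^ (m * i))⁻¹ :=
    fun e => by rw [← conj_pow, e, mul_inv_cancel_right, inv_pow]
  have c4 := pow_mem (mul_mem (hA ha) hA') (m * i)
  have c5 := c3 (left_inverts a2 a2')
  have c6 := c3 (right_inverts a2 a2')
  generalize (a * a') ^ (m * i) = c at *
  refine fin (f.se c4 (f.se' (b.le ha) (hA ha) h6' c4 ?_) h8 (k := 1) (by rwa [pow_one, pow_two]) hA' ?_)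
  · rw [show c * a * c⁻¹ = c * (a * c * a⁻¹)⁻¹ * a by group, c5, inv_inv]
    exact mul_mem (f.nP (f.le h9) (le_normalizer h9)) (f.nP (b.le ha) (hA ha))
  · rw [c6]
    refine inv_mem (f.se' (b.le ha) (hA ha) h6' c4 ?_)
    rw [show c * a * c⁻¹ = c * (a * c * a⁻¹)⁻¹ * a by group, c5, inv_inv]
    exact mul_mem (f.nP (f.le h9) (le_normalizer h9)) (f.nP (b.le ha) (hA ha))) (b.le ha) ha hg⟩

theorem bd_rank (b : BD A Z R) (h6 : H3 G) (hp : ⁅(⊤ : Subgroup G), (⊤ : Subgroup G)⁆ = ⊤)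
    (hR : IsSylowIn 2 R 𝒩(A)) (hS : IsSylowIn 2 S ⊤) (hRS : R ≤ S) (hne : R ≠ S) (h3 : ¬ Re3 R)
    (h4 : A.relIndex R = 4 → ∃ y ∈ 𝒩(R), orderOf y = 3 ∧ OddC y) : PRankLE 2 2 G := by_contra fun rk => by
  have k : ∀ {s}, s ∈ S → s ∉ R → s ∉ 𝒩(A) := fun hs e e1 => e ((hR.eq_of_le (Q := S ⊓ 𝒩(A))
    hS.pgroup.to_inf_left (le_inf hRS b.nA) inf_le_right).le ⟨hs, e1⟩)
  obtain ⟨s, hs, h1, h2⟩ := exists_mem_normalizer_of_lt hS.pgroup (lt_of_le_of_ne hRS hne)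
  have c : BS A Z R s := ⟨b, h2, k hs h1⟩
  have h8 : 4 < Nat.card Z :=
    (lt_of_le_of_ne b.four fun e => h3 (let ⟨_, h, h', h''⟩ := h4 e.symm; bs_re3 c h h' h'')).trans_le b.relIndex_le
  have i2 : I2 R (S ⊓ 𝒩(R)) := fun x hx y hy e e' => by_contra fun e1 =>
    k (mul_mem hx.1 hy.1) e1 (c.i2N x hx.2 y hy.2 (k hx.1 e) (k hy.1 e'))
  have h5 : ∀ g ∈ 𝒩(S ⊓ 𝒩(R)), cj g A ≤ R := fun g hg => by_contra fun e => by
    have e1 := (cj_mono g (b.le.trans (le_inf hRS le_normalizer))).trans (mem_normalizer_iff_cj.mp hg).le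
    obtain ⟨u, hu, e2⟩ := SetLike.not_le_iff_exists.mp e
    have e3 := (i2.mono e1).card_le.trans (Nat.mul_le_mul_left 2 (card_le_of_le
      (show R ⊓ cj g A ≤ Z from fun v hv => c.swap (e1 hu).2 (k (e1 hu).1 e2) hv.1 (sq_cj b.eA g v hv.2)
        (comm_of_sq (sq_cj b.eA g) hu hv.2))))
    rw [card_cj, b.card_A] at e3
    nlinarith
  have h7 : 𝒩(S ⊓ 𝒩(R)) ≤ 𝒩(R) := fun g hg => mem_normalizer_of_cj_le (by
    nth_rewrite 1 [← c.sup]
    rw [cj_sup, ← cj_mul]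
    exact sup_le (h5 g hg) (h5 _ (mul_mem hg (le_normalizer (mem_inf.mpr ⟨hs, h2⟩)))))
  have h9 : S ⊓ 𝒩(R) = S := by_contra fun e =>
    (lt_inf_normalizer_of_lt hS.pgroup (lt_of_le_of_ne inf_le_left e)).not_ge (inf_le_inf_left S h7)
  rw [h9] at i2 h7
  have nR := inf_eq_left.mp h9
  refine h1 (le_of_control3 h6 hS nR i2 (fun P f n hn => by_contra fun e => ?_) hp hs)
  have f : Fz3 S R Z P n := ⟨f, hRS, i2, b.ZA.trans b.le, b.cZ, nR.trans b.nZ, fun _ ha _ hb => c.comm' ha hb,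
    by rintro rfl; exact e (inf_normalizer_le_normalizer_inf ⟨hn, h7 hn⟩), rk, hn, e⟩
  have eZ := sq_cj fun w hw => b.eA w (b.ZA hw)
  by_cases hc : P ≤ 𝒞(Z)
  swap
  · obtain ⟨m, f, u, hu, e1, e2⟩ := f.out hc
    have := f.le (f.ZP' hu)
    exact c.aniso (nR this) (k this e1) h8 (eZ m u hu) (f.i2c hc hu e1) e2
  have k1 : ∀ {m}, Fz3 S R Z P m → cj m Z ≤ R := fun {m} f u hu => by_contra fun e1 => by
    obtain ⟨y, hy, e2, e3⟩ := f.exists_y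
    have e4 := f.ZP' hu
    have e5 : P ≤ 𝒞(cj m Z) := by rw [← cj_centralizer]; exact f.eP.ge.trans (cj_mono m hc)
    exact e3 (f.mem_of_cent (hRS hy) e2 fun v hv => (b.cZ' hy
      (c.cent_le (nR (f.le e4)) (k (f.le e4) e1) (eZ m u hu) (hc e4) hv.2 (e5 hv.1 u hu))).symm)
  obtain ⟨u, hu, e1, e2⟩ := f.exists_u
  have e3 : cj n Z ≤ ⊥ := fun v hv => (f.inside (k1 f) (k1 f.symm)).le (mem_inf.mpr
    ⟨c.swap (nR (f.le hu)) (k (f.le hu) e2) (k1 f hv) (eZ n v hv) (f.cZ' e1 v hv).symm, hv⟩)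
  have := card_le_of_le e3
  rw [card_cj, card_bot] at this
  omega

end CfsgLib.LC3
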